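import Mathlib
import Cfsg.Agent.H637.OrthBasic
import Cfsg.Agent.ClassicalGeometry.OrthSemi
import Cfsg.Agent.LieClassical.OrthFinite
import Cfsg.Agent.FastGrp
import Cfsg.Agent.Prune
set_option linter.all false
prune_inst 0x7f00000000000000000000000000000000000000000000000000000000000000000000000000000000000000000000000000000000000000000000000000000000000000000000000000000000000000003fffffffffffffffffffffffffffbeffbdffffffff
open scoped Cfsg.Agent.FastGrp

-- part: H312/Orth/LemD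
section
/-!
# S3325, Lemma D (helper312)

Abstract situation: `H` a group, `Ω = [H,H]`, `ψ : Ω ≃* M`, `M` a normal subgroup of `C_G(t)`, `t` an involution, `u, u'`
involutions of `C_G(t)` acting on `M` as `z, z' ∈ H` on `Ω`; `zz' ∉ Ω`; `C_H(Ω) = {1, s}`; `<M,u,u'>` has odd index in `C_G(t)`; the
order of `[u,u'] ψ([z,z'])⁻¹` is even.

* `dih_center`: in a group generated by `a, b`, `a² = b² = 1`, `(ab)²` of even order, the central elements are powers of `(ab)²`.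
* `Cfg.lemD`: `t ∈ M ⊔ <[u,u']>`.
* `Cfg.map_eq_one`: every homomorphism of `C_G(t)` to a commutative group kills `t`.
-/

set_option autoImplicit false

namespace Cfsg.Agent.H312.Orth

open Subgroup

/-- The situation of Lemma D. -/
structure Cfg {G H : Type*} [Group G] [Group H] (t : G) (M : Subgroup G) (ψ : ↥(commutator H) ≃* ↥M) (z z' s : H)
    (u u' : G) : Prop where
  t_ne : t ≠ 1
  t_sq : t * t = 1
  M_le : M ≤ centralizer {t}
  M_norm : (M.subgroupOf (centralizer {t})).Normal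
  z_sq : z * z = 1
  z'_sq : z' * z' = 1
  u_mem : u ∈ centralizer {t}
  u_sq : u * u = 1
  u'_mem : u' ∈ centralizer {t}
  u'_sq : u' * u' = 1
  act : ∀ m m' : ↥(commutator H), (m' : H) = z * (m : H) * z⁻¹ → u * (ψ m : G) * u⁻¹ = ψ m'
  act' : ∀ m m' : ↥(commutator H), (m' : H) = z' * (m : H) * z'⁻¹ → u' * (ψ m : G) * u'⁻¹ = ψ m'
  coset : z * z' ∉ commutator H
  odd : Odd ((M ⊔ closure {u, u'}).relIndex (centralizer {t}))
  even : ∀ h : ↥(commutator H), (h : H) = z * z' * z⁻¹ * z'⁻¹ →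
      Even (orderOf (u * u' * u⁻¹ * u'⁻¹ * (ψ h : G)⁻¹))
  cent : ∀ h : H, (∀ m ∈ commutator H, h * m = m * h) → h = 1 ∨ h = s
  cent_s : ∀ m ∈ commutator H, s * m = m * s

namespace Cfg

variable {G H : Type*} [Group G] [Group H] {t : G} {M : Subgroup G} {ψ : ↥(commutator H) ≃* ↥M} {z z' s : H}
  {u u' : G}

/-- an element `g ∈ G` acts on `M` as `h ∈ H` on `Ω` -/
def Act (ψ : ↥(commutator H) ≃* ↥M) (g : G) (h : H) : Prop :=
  ∀ m m' : ↥(commutator H), (m' : H) = h * (m : H) * h⁻¹ → g * (ψ m : G) * g⁻¹ = ψ m'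

theorem conj_mem (h : H) (m : ↥(commutator H)) : h * (m : H) * h⁻¹ ∈ commutator H :=
  (inferInstance : (commutator H).Normal).conj_mem _ m.2 h

theorem Act.mul {g g' : G} {h h' : H} (h1 : Act ψ g h) (h2 : Act ψ g' h') : Act ψ (g * g') (h * h') := by
  intro m m' hm
  have h3 := h2 m ⟨h' * (m : H) * h'⁻¹, conj_mem h' m⟩ rfl
  have h4 := h1 ⟨h' * (m : H) * h'⁻¹, conj_mem h' m⟩ m' (by rw [hm]; group)
  rw [← h4, ← h3]
  group

theorem Act.inv {g : G} {h : H} (h1 : Act ψ g h) : Act ψ g⁻¹ h⁻¹ := by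
  intro m m' hm
  have h3 := h1 m' m (by rw [hm]; group)
  rw [← h3]
  group

theorem Act.one : Act ψ (1 : G) (1 : H) := by
  intro m m' hm
  have : m' = m := Subtype.ext (by rw [hm]; group)
  rw [this]
  group

/-- an element acting as `1` centralizes `M` -/
theorem Act.comm {g : G} (h1 : Act ψ g (1 : H)) {x : G} (hx : x ∈ M) : g * x = x * g := by
  have h2 := h1 (ψ.symm ⟨x, hx⟩) (ψ.symm ⟨x, hx⟩) (by group)
  rw [MulEquiv.apply_symm_apply] at h2
  change g * x * g⁻¹ = x at h2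
  rw [mul_inv_eq_iff_eq_mul] at h2
  exact h2

/-- an element centralizing `M` and acting as `h`: `h` centralizes `Ω` -/
theorem Act.cent {g : G} {h : H} (h1 : Act ψ g h) (hg : ∀ x ∈ M, g * x = x * g) :
    ∀ m ∈ commutator H, h * m = m * h := by
  intro m hm
  have h2 := h1 ⟨m, hm⟩ ⟨h * m * h⁻¹, conj_mem h ⟨m, hm⟩⟩ rfl
  rw [hg _ (ψ ⟨m, hm⟩).2, mul_inv_cancel_right] at h2
  have h3 := ψ.injective (Subtype.ext h2)
  have h4 : m = h * m * h⁻¹ := congrArg Subtype.val h3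
  rw [eq_mul_inv_iff_mul_eq] at h4
  exact h4.symm

end Cfg

end Cfsg.Agent.H312.Orth
end

-- part: H312/Orth/Inst
section
/-!
# S3325, Lemma D for the orthogonal group (helper312)

* `cent_omega`: an isometry centralising `Ω(Q)` is `±1`.
* `omega_perfect`: `Ω(Q)` is perfect.
* `cfg`: the hypotheses of S3325 give the configuration `Cfg` of `LemD`.
* `lemD'`, `map_eq_one'`: Lemma D in the situation of S3325.
-/

set_option autoImplicit false
set_option linter.unusedSectionVars false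

namespace Cfsg.Agent.H312.Orth

open Cfsg QuadraticMap Cfsg.Agent.LieClassical.OrthCore Cfsg.Agent.LieClassical.OrthTrans
  Cfsg.Agent.LieClassical.OrthSimple Cfsg.Agent.LieClassical.OrthFinite Cfsg.Agent.ClassicalGeometry.OrthSemi
open Cfsg.Agent.H637

variable {ι : Type} [Fintype ι] [DecidableEq ι] {F : Type*} [Field F]

/-- `Ω(Q)` is perfect -/
theorem omega_perfect {Q : QuadraticForm F (ι → F)} (hG : Good Q) : commutator ↥(Cfsg.Omega F ⇑Q) = ⊤ := by
  have h1 := hG.E_perfect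
  rw [← hG.commutator_eq_E, ← map_Omega, ← Subgroup.map_commutator] at h1
  have h2 : ⁅Cfsg.Omega F ⇑Q, Cfsg.Omega F ⇑Q⁆ = Cfsg.Omega F ⇑Q :=
    Subgroup.map_injective (isometryHom_injective Q) h1
  rw [commutator_def]
  apply Subgroup.map_injective (Subgroup.subtype_injective (Cfsg.Omega F ⇑Q))
  rw [Subgroup.map_commutator, ← MonoidHom.range_eq_map, Subgroup.range_subtype]
  exact h2

section

variable [Fintype F] {q n : ℕ} (hF : Fintype.card F = q) (hq : Odd q)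
    (hn : 5 ≤ n) (c : Fin n → F) (hc : ∀ i, c i ≠ 0)
    {G : Type*} [Group G] {t : G} (ht : t ≠ 1 ∧ t * t = 1)
    {M : Subgroup G} (hM : M ≤ Subgroup.centralizer {t})
    (hMn : (M.subgroupOf (Subgroup.centralizer {t})).Normal)
    (ψ : ↥(Cfsg.Omega F (fun v : Fin n → F => ∑ i, c i * v i ^ 2)) ≃* ↥M)
    {z z' : ↥(Cfsg.isometryGroup F (fun v : Fin n → F => ∑ i, c i * v i ^ 2))} (hz : z ≠ 1 ∧ z * z = 1) (hz' : z' ≠ 1 ∧ z' * z' = 1)
    (hcoset : z⁻¹ * z' ∉ Cfsg.Omega F (fun v : Fin n → F => ∑ i, c i * v i ^ 2))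
    {u u' : G} (hu : u ∈ Subgroup.centralizer {t} ∧ u ≠ 1 ∧ u * u = 1)
    (hu' : u' ∈ Subgroup.centralizer {t} ∧ u' ≠ 1 ∧ u' * u' = 1)
    (h2 : ∀ m m' : ↥(Cfsg.Omega F (fun v : Fin n → F => ∑ i, c i * v i ^ 2)), (m' : ↥(Cfsg.isometryGroup F (fun v : Fin n → F => ∑ i, c i * v i ^ 2))) = z * (m : ↥(Cfsg.isometryGroup F (fun v : Fin n → F => ∑ i, c i * v i ^ 2))) * z⁻¹ → u * (ψ m : G) * u⁻¹ = ψ m')
    (h2' : ∀ m m' : ↥(Cfsg.Omega F (fun v : Fin n → F => ∑ i, c i * v i ^ 2)), (m' : ↥(Cfsg.isometryGroup F (fun v : Fin n → F => ∑ i, c i * v i ^ 2))) = z' * (m : ↥(Cfsg.isometryGroup F (fun v : Fin n → F => ∑ i, c i * v i ^ 2))) * z'⁻¹ → u' * (ψ m : G) * u'⁻¹ = ψ m')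
    (h3 : Odd ((M ⊔ Subgroup.closure {u, u'}).relIndex (Subgroup.centralizer {t})))
    (h4 : ∀ h : ↥(Cfsg.Omega F (fun v : Fin n → F => ∑ i, c i * v i ^ 2)), (h : ↥(Cfsg.isometryGroup F (fun v : Fin n → F => ∑ i, c i * v i ^ 2))) = z * z' * z⁻¹ * z'⁻¹ →
      Even (orderOf (u * u' * u⁻¹ * u'⁻¹ * (ψ h : G)⁻¹)))

include hF hq hn hc ht hM hMn hz hz' hcoset hu hu' h2 h2' h3 h4

variable [Finite G] (hdet : ((z : GL (Fin n) F) : Matrix (Fin n) (Fin n) F).det = -1 ∧
      ((z' : GL (Fin n) F) : Matrix (Fin n) (Fin n) F).det = -1)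

include hdet

end

end Cfsg.Agent.H312.Orth
end
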